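import Groth.Agent.Lib.LimDescend.Glue

/-!
# Schemes of finite presentation over a limit descend to a stage
-/

set_option autoImplicit false
set_option backward.isDefEq.respectTransparency false
set_option linter.style.haveILetI false
universe u

open CategoryTheory Limits AlgebraicGeometry TopologicalSpace

noncomputable section

namespace GrothLib.LimDescend

open GrothLib.LimDesc

variable {I : Type u} [SmallCategory I] (D : I ⥤ Scheme.{u}) (c : Cone D)

/-- Transport of a model along an isomorphism of the source. -/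
def Model.ofIso {X X' : Scheme.{u}} {f : X ⟶ c.pt} {f' : X' ⟶ c.pt} {i : I} (M : Model D c f i)
    (e : X' ≅ X) (he : e.hom ≫ f = f') : Model D c f' i where
  obj := M.obj
  hom := M.hom
  proj := e.hom ≫ M.proj
  lfp := M.lfp
  qc := M.qc
  qs := M.qs
  isPullback := M.isPullback.of_iso e.symm (Iso.refl _) (Iso.refl _) (Iso.refl _) (by simp)
    (by simp [← he]) (by simp) (by simp)

@[reassoc]
theorem Model.map_proj_fst {X : Scheme.{u}} {f : X ⟶ c.pt} {i : I} (M : Model D c f i) {j : I}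
    (φ : j ⟶ i) : (M.map D c φ).proj ≫ pullback.fst M.hom (D.map φ) = M.proj :=
  pullback.lift_fst _ _ _

theorem opensRange_mapNat {i : I} {Z : Scheme.{u}} (a : Z ⟶ D.obj i) (A : Z.Opens) (l : Over i)
    [IsOpenImmersion ((mapNat D i a (A.ι ≫ a) A.ι rfl).app l)] :
    ((mapNat D i a (A.ι ≫ a) A.ι rfl).app l).opensRange = pullback.fst a (D.map l.hom) ⁻¹ᵁ A := by
  refine Opens.ext (Set.ext fun z => ⟨?_, fun hz => ?_⟩)
  · rintro ⟨u, rfl⟩
    show ((mapNat D i a (A.ι ≫ a) A.ι rfl).app l ≫ pullback.fst a (D.map l.hom)) u ∈ A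
    rw [mapNat_fst]
    exact (pullback.fst (A.ι ≫ a) (D.map l.hom) u).2
  · obtain ⟨u, -, hu⟩ := Scheme.exists_preimage_of_isPullback
      (isPullback_mapNat D i a (A.ι ≫ a) A.ι rfl l) (⟨_, hz⟩ : A.toScheme) z rfl
    exact ⟨u, hu⟩

variable (hc : IsLimit c) [IsCofiltered I] [∀ (i j : I) (f : i ⟶ j), IsAffineHom (D.map f)]
  [∀ i, CompactSpace (D.obj i)] [∀ i, QuasiSeparatedSpace (D.obj i)]

omit [IsCofiltered I] [∀ (i j : I) (f : i ⟶ j), IsAffineHom (D.map f)]
  [∀ i, QuasiSeparatedSpace (D.obj i)] in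
lemma compactSpace_model {X : Scheme.{u}} {f : X ⟶ c.pt} {i : I} (M : Model D c f i) :
    CompactSpace M.obj :=
  QuasiCompact.compactSpace_of_compactSpace M.hom

omit [IsCofiltered I] [∀ (i j : I) (f : i ⟶ j), IsAffineHom (D.map f)]
  [∀ i, CompactSpace (D.obj i)] in
lemma quasiSeparatedSpace_model {X : Scheme.{u}} {f : X ⟶ c.pt} {i : I} (M : Model D c f i) :
    QuasiSeparatedSpace M.obj :=
  quasiSeparatedSpace_of_quasiSeparated M.hom

include hc in
/-- A quasi-compact open of a scheme with a model comes from an open of the model at a later stage. -/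
theorem exists_open_model {X W : Scheme.{u}} {f : X ⟶ c.pt} {i : I} (M : Model D c f i) (j : W ⟶ X)
    [IsOpenImmersion j] [CompactSpace W] :
    ∃ (k : I) (φ : k ⟶ i) (A : (M.map D c φ).obj.Opens),
      IsCompact (A : Set (M.map D c φ).obj) ∧ (M.map D c φ).proj ⁻¹ᵁ A = j.opensRange := by
  haveI := compactSpace_model D c M
  haveI := quasiSeparatedSpace_model D c M
  haveI (j k : Over i) (φ : j ⟶ k) : IsAffineHom ((diag D i M.hom).map φ) := isAffineHom_map D i M.hom φ
  haveI (j : Over i) : CompactSpace ↥((diag D i M.hom).obj j) := compactSpace_obj D i M.hom j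
  haveI (j : Over i) : QuasiSeparatedSpace ↥((diag D i M.hom).obj j) := quasiSeparatedSpace_obj D i M.hom j
  obtain ⟨k, A, hA, h⟩ := exists_preimage_eq (diag D i M.hom) (cone D i M.hom M.isPullback)
    (isLimitCone D i M.hom M.isPullback hc) j.opensRange (isCompact_range j.continuous)
  exact ⟨k.left, k.hom, A, hA, h⟩

include hc in
/-- **Models of two opens give a model of their union.** -/
theorem exists_model_union {X : Scheme.{u}} (f : X ⟶ c.pt) [QuasiSeparatedSpace X] (U V : X.Opens)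
    (hUV : U ⊔ V = ⊤) (hU : IsCompact (U : Set X)) (hV : IsCompact (V : Set X))
    {i₁ i₂ : I} (MU : Model D c (U.ι ≫ f) i₁) (MV : Model D c (V.ι ≫ f) i₂) :
    ∃ i, Nonempty (Model D c f i) := by
  let i := IsCofiltered.min i₁ i₂
  let W := U ⊓ V
  haveI : CompactSpace W.toScheme := isCompact_iff_compactSpace.mp
    (QuasiSeparatedSpace.inter_isCompact _ _ U.2 hU V.2 hV)
  let jU := X.homOfLE (inf_le_left : W ≤ U)
  let jV := X.homOfLE (inf_le_right : W ≤ V)
  obtain ⟨k₁, φ₁, A₁, hA₁, hA₁'⟩ :=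
    exists_open_model D c hc (MU.map D c (IsCofiltered.minToLeft i₁ i₂)) jU
  let MU₁ := (MU.map D c (IsCofiltered.minToLeft i₁ i₂)).map D c φ₁
  let MV₁ := (MV.map D c (IsCofiltered.minToRight i₁ i₂)).map D c φ₁
  obtain ⟨k, φ, B, hB, hB'⟩ := exists_open_model D c hc MV₁ jV
  let MU₂ := MU₁.map D c φ
  let MV₂ := MV₁.map D c φ
  haveI := compactSpace_model D c MU₂
  haveI := compactSpace_model D c MV₂
  haveI := quasiSeparatedSpace_model D c MU₂
  haveI := quasiSeparatedSpace_model D c MV₂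
  let A : MU₂.obj.Opens := pullback.fst MU₁.hom (D.map φ) ⁻¹ᵁ A₁
  have hA' : MU₂.proj ⁻¹ᵁ A = jU.opensRange := by
    rw [← hA₁', ← Scheme.Hom.comp_preimage]
    exact congrArg (· ⁻¹ᵁ A₁) (MU₁.map_proj_fst D c φ)
  haveI : IsAffineHom (pullback.fst MU₁.hom (D.map φ)) := MorphismProperty.pullback_fst _ _ inferInstance
  haveI : CompactSpace A.toScheme := isCompact_iff_compactSpace.mp
    ((pullback.fst MU₁.hom (D.map φ)).isCompact_preimage hA₁)
  haveI : CompactSpace B.toScheme := isCompact_iff_compactSpace.mp hB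
  haveI : QuasiSeparatedSpace A.toScheme := A.ι.isOpenEmbedding.quasiSeparatedSpace
  haveI : QuasiSeparatedSpace B.toScheme := B.ι.isOpenEmbedding.quasiSeparatedSpace
  obtain ⟨gA, hgA, sA⟩ := isPullback_restrict D c MU₂ jU A hA'
  obtain ⟨gB, hgB, sB⟩ := isPullback_restrict D c MV₂ jV B hB'
  rw [Scheme.homOfLE_ι_assoc] at sA sB
  obtain ⟨l, e, he, heπ⟩ := exists_iso D (A.ι ≫ MU₂.hom) (B.ι ≫ MV₂.hom) sA sB hc (Iso.refl _)
    (Category.id_comp _)
  let MU₃ := MU₂.map D c l.hom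
  let MV₃ := MV₂.map D c l.hom
  let inA := (mapNat D k MU₂.hom (A.ι ≫ MU₂.hom) A.ι rfl).app l
  let inB := (mapNat D k MV₂.hom (B.ι ≫ MV₂.hom) B.ι rfl).app l
  haveI hoA : IsOpenImmersion inA := MorphismProperty.of_isPullback (P := @IsOpenImmersion)
    (isPullback_mapNat D k MU₂.hom _ A.ι rfl l) inferInstance
  haveI hoB : IsOpenImmersion inB := MorphismProperty.of_isPullback (P := @IsOpenImmersion)
    (isPullback_mapNat D k MV₂.hom _ B.ι rfl l) inferInstance
  haveI : CompactSpace ↥(pullback (A.ι ≫ MU₂.hom) (D.map l.hom)) := compactSpace_obj D k _ l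
  haveI : CompactSpace MU₃.obj := compactSpace_model D c MU₃
  haveI : CompactSpace MV₃.obj := compactSpace_model D c MV₃
  haveI : QuasiSeparatedSpace MU₃.obj := quasiSeparatedSpace_model D c MU₃
  haveI : QuasiSeparatedSpace MV₃.obj := quasiSeparatedSpace_model D c MV₃
  haveI : IsOpenImmersion (e.hom ≫ inB) := inferInstance
  refine ⟨l.left, exists_model_of_glue D c f U V W hUV rfl MU₃ MV₃ inA (e.hom ≫ inB) ?_
    ((cone D k (A.ι ≫ MU₂.hom) sA).π.app l) ?_ ?_ ?_ ?_⟩
  · show inA ≫ pullback.snd _ _ = (e.hom ≫ inB) ≫ pullback.snd _ _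
    rw [mapNat_snd, Category.assoc, mapNat_snd, he]
  · apply pullback.hom_ext
    · show ((cone D k (A.ι ≫ MU₂.hom) sA).π.app l ≫ inA) ≫ pullback.fst _ _ = (jU ≫ MU₃.proj) ≫ pullback.fst _ _
      rw [Category.assoc, Category.assoc, mapNat_fst, π_fst_assoc, hgA]
      exact (congrArg (jU ≫ ·) (MU₂.map_proj_fst D c l.hom)).symm
    · show ((cone D k (A.ι ≫ MU₂.hom) sA).π.app l ≫ inA) ≫ pullback.snd _ _ = (jU ≫ MU₃.proj) ≫ pullback.snd _ _
      rw [Category.assoc, Category.assoc, mapNat_snd, π_snd]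
      refine (Eq.trans ?_ congr(jU ≫ $(pullback.lift_snd _ _ _)).symm)
      simp [jU]
  · rw [reassoc_of% heπ]
    refine (Category.id_comp _).trans ?_
    apply pullback.hom_ext
    · show ((cone D k (B.ι ≫ MV₂.hom) sB).π.app l ≫ inB) ≫ pullback.fst _ _ = (jV ≫ MV₃.proj) ≫ pullback.fst _ _
      rw [Category.assoc, Category.assoc, mapNat_fst, π_fst_assoc, hgB]
      exact (congrArg (jV ≫ ·) (MV₂.map_proj_fst D c l.hom)).symm
    · show ((cone D k (B.ι ≫ MV₂.hom) sB).π.app l ≫ inB) ≫ pullback.snd _ _ = (jV ≫ MV₃.proj) ≫ pullback.snd _ _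
      rw [Category.assoc, Category.assoc, mapNat_snd, π_snd]
      refine (Eq.trans ?_ congr(jV ≫ $(pullback.lift_snd _ _ _)).symm)
      simp [jV]
  · rw [opensRange_mapNat]
    exact (congrArg (· ⁻¹ᵁ A) (MU₂.map_proj_fst D c l.hom)).trans hA'
  · rw [Scheme.Hom.opensRange_comp_of_isIso, opensRange_mapNat]
    exact (congrArg (· ⁻¹ᵁ B) (MV₂.map_proj_fst D c l.hom)).trans hB'

include hc in
/-- **A scheme of finite presentation over the limit descends to a stage.** -/
theorem exists_model {X : Scheme.{u}} (f : X ⟶ c.pt) [LocallyOfFinitePresentation f] [QuasiCompact f]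
    [QuasiSeparated f] : ∃ i, Nonempty (Model D c f i) := by
  classical
  obtain ⟨i₀⟩ := IsCofiltered.nonempty (C := I)
  haveI := isAffineHom_π_app D c hc i₀
  haveI : CompactSpace c.pt := Scheme.compactSpace_of_isLimit D c hc
  haveI : QuasiSeparatedSpace c.pt := quasiSeparatedSpace_of_quasiSeparated (c.π.app i₀)
  haveI : CompactSpace X := QuasiCompact.compactSpace_of_compactSpace f
  haveI : QuasiSeparatedSpace X := quasiSeparatedSpace_of_quasiSeparated f
  have hex : ∀ x : X, ∃ (U : X.Opens) (V : (D.obj i₀).Opens),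
      IsAffineOpen U ∧ IsAffineOpen V ∧ x ∈ U ∧ U ≤ f ⁻¹ᵁ (c.π.app i₀ ⁻¹ᵁ V) := fun x => by
    obtain ⟨V, hV, hxV, -⟩ := exists_isAffineOpen_mem_and_subset
      (show c.π.app i₀ (f x) ∈ (⊤ : (D.obj i₀).Opens) from trivial)
    obtain ⟨U, hU, hxU, e⟩ := exists_isAffineOpen_mem_and_subset
      (show x ∈ f ⁻¹ᵁ (c.π.app i₀ ⁻¹ᵁ V) from hxV)
    exact ⟨U, V, hU, hV, hxU, e⟩
  choose U V hU hV hxU hUV using hex
  obtain ⟨t, ht⟩ := CompactSpace.elim_nhds_subcover (fun x => (U x : Set X))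
    (fun x => (U x).2.mem_nhds (hxU x))
  have key : ∀ s : Finset X, ∃ O : X.Opens, IsCompact (O : Set X) ∧ (∀ x ∈ s, U x ≤ O) ∧
      ∃ i, Nonempty (Model D c (O.ι ≫ f) i) := by
    intro s
    induction s using Finset.induction_on with
    | empty =>
      exact ⟨⊥, isCompact_empty, by simp,
        exists_model_affine D c hc f (i := i₀) (V := ⊤ ⊓ ⊥) (by rw [inf_bot_eq]; exact isAffineOpen_bot _)
          (isAffineOpen_bot X) bot_le⟩
    | insert x s _ ih =>
      obtain ⟨O, hO, hOs, i₁, ⟨M₁⟩⟩ := ih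
      obtain ⟨i₂, ⟨M₂⟩⟩ := exists_model_affine D c hc f (hV x) (hU x) (hUV x)
      let O' := O ⊔ U x
      refine ⟨O', hO.union (hU x).isCompact, fun y hy => ?_, ?_⟩
      · rcases Finset.mem_insert.1 hy with rfl | hy
        · exact le_sup_right
        · exact (hOs y hy).trans le_sup_left
      haveI : QuasiSeparatedSpace O'.toScheme :=
        O'.ι.isOpenEmbedding.quasiSeparatedSpace
      have hsup : O'.ι ⁻¹ᵁ O ⊔ O'.ι ⁻¹ᵁ U x = ⊤ := top_le_iff.mp fun y _ => y.2
      have hcomp : ∀ (W : X.Opens), W ≤ O' → IsCompact (W : Set X) →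
          IsCompact ((O'.ι ⁻¹ᵁ W : O'.toScheme.Opens) : Set O'.toScheme) := fun W hW hWc => by
        rw [O'.ι.isOpenEmbedding.isInducing.isCompact_iff]
        convert hWc
        exact Set.image_preimage_eq_of_subset (by rw [Scheme.Opens.range_ι]; exact hW)
      have hrange : ∀ (W : X.Opens), W ≤ O' →
          Set.range W.ι = Set.range ((O'.ι ⁻¹ᵁ W).ι ≫ O'.ι) := fun W hW => by
        rw [Scheme.Hom.comp_base, TopCat.coe_comp, Set.range_comp, Scheme.Opens.range_ι,
          Scheme.Opens.range_ι]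
        exact (Set.image_preimage_eq_of_subset (by rw [Scheme.Opens.range_ι]; exact hW)).symm
      refine exists_model_union D c hc (O'.ι ≫ f) (O'.ι ⁻¹ᵁ O) (O'.ι ⁻¹ᵁ U x) hsup
        (hcomp O le_sup_left hO) (hcomp (U x) le_sup_right (hU x).isCompact)
        (M₁.ofIso D c (IsOpenImmersion.isoOfRangeEq _ O.ι (hrange O le_sup_left).symm) ?_)
        (M₂.ofIso D c (IsOpenImmersion.isoOfRangeEq _ (U x).ι (hrange (U x) le_sup_right).symm) ?_)
      · rw [← Category.assoc, IsOpenImmersion.isoOfRangeEq_hom_fac, Category.assoc]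
      · rw [← Category.assoc, IsOpenImmersion.isoOfRangeEq_hom_fac, Category.assoc]
  obtain ⟨O, -, hOs, i, ⟨M⟩⟩ := key t
  have hO : O = ⊤ := top_le_iff.mp fun y hy => by
    obtain ⟨x, hx, hy⟩ := Set.mem_iUnion₂.mp (ht.ge (Set.mem_univ y))
    exact hOs x hx hy
  subst hO
  exact ⟨i, ⟨M.ofIso D c X.topIso.symm (by simp)⟩⟩

end GrothLib.LimDescend
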