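import Groth.Agent.Lib.LimDescend.Scheme
import Groth.Agent.Lib.LimSmooth.Reduction

/-!
# Models with a property that is local on the source
-/

set_option autoImplicit false
set_option backward.isDefEq.respectTransparency false
set_option linter.style.haveILetI false
universe u

open CategoryTheory Limits AlgebraicGeometry

noncomputable section

namespace GrothLib.LimDescend

open GrothLib.LimSmooth

variable {I : Type u} [SmallCategory I] [IsCofiltered I] (D : I ⥤ Scheme.{u}) (c : Cone D) (hc : IsLimit c)
  [∀ (i j : I) (f : i ⟶ j), IsAffineHom (D.map f)] [∀ i, CompactSpace (D.obj i)]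
  [∀ i, QuasiSeparatedSpace (D.obj i)]

include hc in
/-- A finitely presented scheme with a property `P` has a model with property `P`. -/
theorem exists_model_property (P : MorphismProperty Scheme.{u}) [P.IsStableUnderBaseChange]
    [IsZariskiLocalAtSource P]
    (hcomp : ∀ {A B C : Scheme.{u}} (a : A ⟶ B) (b : B ⟶ C) [IsOpenImmersion b], P a → P (a ≫ b))
    (H : GrothLib.LimDesc.AffineCase P) {X : Scheme.{u}} (f : X ⟶ c.pt) [LocallyOfFinitePresentation f]
    [QuasiCompact f] [QuasiSeparated f] (hf : P f) :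
    ∃ (j : I) (M : Model D c f j), P M.hom := by
  obtain ⟨i, ⟨M⟩⟩ := exists_model D c hc f
  haveI := compactSpace_model D c M
  have hY : IsPullback (c.π.app i) (𝟙 c.pt) (𝟙 (D.obj i)) (c.π.app i) :=
    IsPullback.of_id_fst.flip
  obtain ⟨j, φ, Xj, Yj, fj, gj, pY, pX, hYj, hXj, hj⟩ :=
    (iff_exists_stage D hc M.hom (𝟙 _) hY M.isPullback P hcomp H).mp hf
  haveI : IsIso gj := MorphismProperty.of_isPullback (P := MorphismProperty.isomorphisms Scheme.{u})
    hYj (inferInstanceAs (IsIso (𝟙 (D.obj i))))
  obtain ⟨rX, rY, hr, -, hrg, -⟩ := exists_isPullback_stage D M.hom (𝟙 _) hY M.isPullback hYj hXj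
  have hrg' : rY ≫ gj = c.π.app j := hrg.trans (Category.id_comp _)
  refine ⟨j, ⟨Xj, fj ≫ gj, rX,
    (MorphismProperty.cancel_right_of_respectsIso @LocallyOfFinitePresentation fj gj).mpr
      (MorphismProperty.of_isPullback hXj M.lfp),
    (MorphismProperty.cancel_right_of_respectsIso @QuasiCompact fj gj).mpr
      (MorphismProperty.of_isPullback hXj M.qc),
    (MorphismProperty.cancel_right_of_respectsIso @QuasiSeparated fj gj).mpr
      (MorphismProperty.of_isPullback hXj M.qs), ?_⟩,
    (MorphismProperty.cancel_right_of_respectsIso P fj gj).mpr hj⟩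
  have h2 : IsPullback rY (𝟙 c.pt) gj (c.π.app j) :=
    @IsPullback.of_vert_isIso _ _ _ _ _ _ rY (𝟙 c.pt) gj (c.π.app j) (IsIso.id _) ‹IsIso gj›
      ⟨hrg'.trans (Category.id_comp _).symm⟩
  exact (Category.comp_id f) ▸ hr.paste_vert h2

end GrothLib.LimDescend
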