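import Groth.Agent.Lib.LimDesc.Single
import Mathlib.AlgebraicGeometry.Morphisms.FinitePresentation

/-!
# Morphisms and isomorphisms of finitely presented schemes descend along limits
-/

set_option autoImplicit false
set_option backward.isDefEq.respectTransparency false
set_option linter.style.haveILetI false
universe u

open CategoryTheory Limits AlgebraicGeometry

noncomputable section

namespace GrothLib.LimDescend

open GrothLib.LimDesc

variable {I : Type u} [SmallCategory I] (D : I ⥤ Scheme.{u}) {c : Cone D}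
  [∀ (i j : I) (f : i ⟶ j), IsAffineHom (D.map f)] {i₀ : I}
  {Z Z' : Scheme.{u}} (a : Z ⟶ D.obj i₀) (b : Z' ⟶ D.obj i₀)
  {P P' : Scheme.{u}} {q : P ⟶ Z} {p : P ⟶ c.pt} {q' : P' ⟶ Z'} {p' : P' ⟶ c.pt}
  (hP : IsPullback q p a (c.π.app i₀)) (hP' : IsPullback q' p' b (c.π.app i₀))

variable (hc : IsLimit c) [IsCofiltered I] [CompactSpace Z] [QuasiSeparatedSpace Z]

include hc hP hP' in
/-- **Morphisms descend to a stage.** -/
theorem exists_hom [LocallyOfFinitePresentation b] (f : P ⟶ P') (hf : f ≫ p' = p) :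
    ∃ (k : Over i₀) (g : pullback a (D.map k.hom) ⟶ pullback b (D.map k.hom)),
      g ≫ pullback.snd b (D.map k.hom) = pullback.snd a (D.map k.hom) ∧
      (cone D i₀ a hP).π.app k ≫ g = f ≫ (cone D i₀ b hP').π.app k := by
  haveI (j k : Over i₀) (φ : j ⟶ k) : IsAffineHom ((diag D i₀ a).map φ) := isAffineHom_map D i₀ a φ
  haveI (j : Over i₀) : CompactSpace ↥((diag D i₀ a).obj j) := compactSpace_obj D i₀ a j
  haveI (j : Over i₀) : QuasiSeparatedSpace ↥((diag D i₀ a).obj j) := quasiSeparatedSpace_obj D i₀ a j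
  obtain ⟨k, g, hg, hgb⟩ := Scheme.exists_π_app_comp_eq_of_locallyOfFinitePresentation
    (diag D i₀ a) (toBase D a) b (cone D i₀ a hP) (isLimitCone D i₀ a hP hc) (f ≫ q') (by
      ext j : 2
      refine (π_fst_assoc D i₀ a hP j a).trans ?_
      change q ≫ a = (f ≫ q') ≫ b
      rw [Category.assoc, hP.w, hP'.w, reassoc_of% hf])
  have hw : g ≫ b = pullback.snd a (D.map k.hom) ≫ D.map k.hom := by
    rw [← pullback.condition]; exact hgb
  refine ⟨k, pullback.lift g (pullback.snd _ _) hw, pullback.lift_snd _ _ _, ?_⟩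
  apply pullback.hom_ext
  · rw [Category.assoc, Category.assoc, pullback.lift_fst, π_fst, hg]
  · rw [Category.assoc, Category.assoc, pullback.lift_snd, π_snd, π_snd, reassoc_of% hf]

include hc in
/-- **Morphisms over a stage agreeing on the limit agree at a later stage.** -/
theorem exists_hom_eq [LocallyOfFiniteType b] {k : Over i₀}
    (u v : pullback a (D.map k.hom) ⟶ pullback b (D.map k.hom))
    (hu : u ≫ pullback.snd b (D.map k.hom) = pullback.snd a (D.map k.hom))
    (hv : v ≫ pullback.snd b (D.map k.hom) = pullback.snd a (D.map k.hom))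
    (huv : (cone D i₀ a hP).π.app k ≫ u = (cone D i₀ a hP).π.app k ≫ v) :
    ∃ (l : Over i₀) (φ : l ⟶ k), (diag D i₀ a).map φ ≫ u = (diag D i₀ a).map φ ≫ v := by
  haveI (j k : Over i₀) (φ : j ⟶ k) : IsAffineHom ((diag D i₀ a).map φ) := isAffineHom_map D i₀ a φ
  haveI (j : Over i₀) : CompactSpace ↥((diag D i₀ a).obj j) := compactSpace_obj D i₀ a j
  obtain ⟨l, φ, h⟩ := Scheme.exists_hom_comp_eq_comp_of_locallyOfFiniteType
    (diag D i₀ a) (toBase D a) b (cone D i₀ a hP) (isLimitCone D i₀ a hP hc)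
    (u ≫ pullback.fst _ _) (v ≫ pullback.fst _ _)
    (by rw [Category.assoc, pullback.condition, reassoc_of% hu, ← pullback.condition]; rfl)
    (by rw [Category.assoc, pullback.condition, reassoc_of% hv, ← pullback.condition]; rfl)
    (by rw [reassoc_of% huv])
  refine ⟨l, φ, ?_⟩
  apply pullback.hom_ext
  · rw [Category.assoc, Category.assoc]; exact h
  · rw [Category.assoc, Category.assoc, hu, hv]

/-- A morphism at a stage gives one at every later stage. -/
def transfer {k l : Over i₀} (φ : l ⟶ k) (g : pullback a (D.map k.hom) ⟶ pullback b (D.map k.hom))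
    (hg : g ≫ pullback.snd b (D.map k.hom) = pullback.snd a (D.map k.hom)) :
    pullback a (D.map l.hom) ⟶ pullback b (D.map l.hom) :=
  pullback.lift ((diag D i₀ a).map φ ≫ g ≫ pullback.fst _ _) (pullback.snd _ _) (by
    rw [Category.assoc, Category.assoc, pullback.condition, reassoc_of% hg, map_snd_assoc,
      ← D.map_comp, Over.w φ])

omit [∀ (i j : I) (f : i ⟶ j), IsAffineHom (D.map f)] [IsCofiltered I] [CompactSpace Z]
  [QuasiSeparatedSpace Z] in
@[reassoc]
lemma transfer_snd {k l : Over i₀} (φ : l ⟶ k) (g : pullback a (D.map k.hom) ⟶ pullback b (D.map k.hom))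
    (hg : g ≫ pullback.snd b (D.map k.hom) = pullback.snd a (D.map k.hom)) :
    transfer D a b φ g hg ≫ pullback.snd b (D.map l.hom) = pullback.snd a (D.map l.hom) :=
  pullback.lift_snd _ _ _

omit [∀ (i j : I) (f : i ⟶ j), IsAffineHom (D.map f)] [IsCofiltered I] [CompactSpace Z]
  [QuasiSeparatedSpace Z] in
@[reassoc]
lemma transfer_map {k l : Over i₀} (φ : l ⟶ k) (g : pullback a (D.map k.hom) ⟶ pullback b (D.map k.hom))
    (hg : g ≫ pullback.snd b (D.map k.hom) = pullback.snd a (D.map k.hom)) :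
    transfer D a b φ g hg ≫ (diag D i₀ b).map φ = (diag D i₀ a).map φ ≫ g := by
  apply pullback.hom_ext
  · rw [Category.assoc, map_fst]
    exact (pullback.lift_fst _ _ _).trans (Category.assoc _ _ _).symm
  · rw [Category.assoc, Category.assoc, hg, map_snd, transfer_snd_assoc, map_snd]

omit [∀ (i j : I) (f : i ⟶ j), IsAffineHom (D.map f)] [IsCofiltered I] [CompactSpace Z]
  [QuasiSeparatedSpace Z] in
lemma π_transfer {k l : Over i₀} (φ : l ⟶ k) (g : pullback a (D.map k.hom) ⟶ pullback b (D.map k.hom))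
    (hg : g ≫ pullback.snd b (D.map k.hom) = pullback.snd a (D.map k.hom)) (f : P ⟶ P') (hf : f ≫ p' = p)
    (h : (cone D i₀ a hP).π.app k ≫ g = f ≫ (cone D i₀ b hP').π.app k) :
    (cone D i₀ a hP).π.app l ≫ transfer D a b φ g hg = f ≫ (cone D i₀ b hP').π.app l := by
  apply pullback.hom_ext
  · rw [Category.assoc, Category.assoc, transfer, pullback.lift_fst, ← Category.assoc,
      (cone D i₀ a hP).w φ, reassoc_of% h, π_fst, π_fst]
  · rw [Category.assoc, Category.assoc, transfer_snd, π_snd, π_snd, reassoc_of% hf]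

include hc hP hP' in
/-- **Isomorphisms descend to a stage.** -/
theorem exists_iso [LocallyOfFinitePresentation a] [LocallyOfFinitePresentation b] [CompactSpace Z']
    [QuasiSeparatedSpace Z'] (f : P ≅ P') (hf : f.hom ≫ p' = p) :
    ∃ (k : Over i₀) (g : pullback a (D.map k.hom) ≅ pullback b (D.map k.hom)),
      g.hom ≫ pullback.snd b (D.map k.hom) = pullback.snd a (D.map k.hom) ∧
      (cone D i₀ a hP).π.app k ≫ g.hom = f.hom ≫ (cone D i₀ b hP').π.app k := by
  obtain ⟨k₁, g₁, hg₁, hg₁'⟩ := exists_hom D a b hP hP' hc f.hom hf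
  obtain ⟨k₂, g₂, hg₂, hg₂'⟩ := exists_hom D b a hP' hP hc f.inv (by rw [← hf, f.inv_hom_id_assoc])
  let k := IsCofiltered.min k₁ k₂
  let u := transfer D a b (IsCofiltered.minToLeft k₁ k₂) g₁ hg₁
  let v := transfer D b a (IsCofiltered.minToRight k₁ k₂) g₂ hg₂
  have hu := π_transfer D a b hP hP' (IsCofiltered.minToLeft k₁ k₂) g₁ hg₁ f.hom hf hg₁'
  have hv := π_transfer D b a hP' hP (IsCofiltered.minToRight k₁ k₂) g₂ hg₂ f.inv
    (by rw [← hf, f.inv_hom_id_assoc]) hg₂'
  obtain ⟨l₁, φ₁, h₁⟩ := exists_hom_eq D a a hP hc (u ≫ v) (𝟙 _)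
    (by simp [u, v, transfer_snd]) (by simp)
    (by rw [reassoc_of% hu, hv, f.hom_inv_id_assoc]; exact (Category.comp_id _).symm)
  obtain ⟨l₂, φ₂, h₂⟩ := exists_hom_eq D b b hP' hc (v ≫ u) (𝟙 _)
    (by simp [u, v, transfer_snd]) (by simp)
    (by rw [reassoc_of% hv, hu, f.inv_hom_id_assoc]; exact (Category.comp_id _).symm)
  obtain ⟨l, ψ₁, ψ₂, hψ⟩ := IsCofiltered.cospan φ₁ φ₂
  let φ := ψ₁ ≫ φ₁
  have hu0 : u ≫ pullback.snd b (D.map k.hom) = pullback.snd a (D.map k.hom) := transfer_snd D a b _ _ _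
  have hv0 : v ≫ pullback.snd a (D.map k.hom) = pullback.snd b (D.map k.hom) := transfer_snd D b a _ _ _
  let U := transfer D a b φ u hu0
  let V := transfer D b a φ v hv0
  have huv : (diag D i₀ a).map φ ≫ u ≫ v = (diag D i₀ a).map φ := by
    simp only [φ, Functor.map_comp, Category.assoc, h₁]
    exact congrArg (_ ≫ ·) (Category.comp_id _)
  have hvu : (diag D i₀ b).map φ ≫ v ≫ u = (diag D i₀ b).map φ := by
    simp only [φ, hψ, Functor.map_comp, Category.assoc, h₂]
    exact congrArg (_ ≫ ·) (Category.comp_id _)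
  refine ⟨l, ⟨U, V, ?_, ?_⟩, transfer_snd D a b φ u hu0,
    π_transfer D a b hP hP' φ u hu0 f.hom hf hu⟩
  · apply (isPullback_map D i₀ a φ).hom_ext
    · rw [Category.assoc, transfer_map, transfer_map_assoc, huv, Category.id_comp]
    · rw [Category.assoc, transfer_snd, transfer_snd, Category.id_comp]
  · apply (isPullback_map D i₀ b φ).hom_ext
    · rw [Category.assoc, transfer_map, transfer_map_assoc, hvu, Category.id_comp]
    · rw [Category.assoc, transfer_snd, transfer_snd, Category.id_comp]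

end GrothLib.LimDescend
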