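import Mathlib.Algebra.Category.ModuleCat.FilteredColimits
import Mathlib.Algebra.Category.ModuleCat.Colimits
import Mathlib.CategoryTheory.Limits.Types.Filtered
import Mathlib.CategoryTheory.Limits.ConcreteCategory.Basic
import Mathlib.RingTheory.Finiteness.Basic
import Mathlib.Algebra.Module.FinitePresentation

/-!
# Homomorphisms out of finitely generated and finitely presented modules into directed colimits
-/

set_option autoImplicit false

universe u

open CategoryTheory CategoryTheory.Limits Opposite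

namespace GrothLib.LimDescend

variable {A : Type u} [CommRing A] (M : ModuleCat.{u} A) {J : Type u} [Preorder J] [IsDirected J (· ≤ ·)]
  [Nonempty J] (N : J ⥤ ModuleCat.{u} A)

theorem exists_map_eq {i : J} (x y : N.obj i) (h : colimit.ι N i x = colimit.ι N i y) :
    ∃ (k : J) (hk : i ≤ k), N.map (homOfLE hk) x = N.map (homOfLE hk) y := by
  obtain ⟨k, f, g, e⟩ := Concrete.colimit_exists_of_rep_eq N x y h
  refine ⟨k, f.le, ?_⟩
  rw [Subsingleton.elim g f] at e
  rwa [Subsingleton.elim (homOfLE f.le) f]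

omit [IsDirected J (· ≤ ·)] [Nonempty J] in
theorem ι_map {i k : J} (h : i ≤ k) (z : N.obj i) :
    colimit.ι N k (N.map (homOfLE h) z) = colimit.ι N i z :=
  congr($(colimit.w N (homOfLE h)) z)

omit [IsDirected J (· ≤ ·)] [Nonempty J] in
theorem map_map {i k m : J} (h : i ≤ k) (h' : k ≤ m) (z : N.obj i) :
    N.map (homOfLE h') (N.map (homOfLE h) z) = N.map (homOfLE (h.trans h')) z :=
  (congr($(N.map_comp (homOfLE h) (homOfLE h')) z)).symm

theorem post_ι (i : J) (φ : M ⟶ N.obj i) :
    colimit.post N (coyoneda.obj (op M)) (colimit.ι (N ⋙ coyoneda.obj (op M)) i φ) = φ ≫ colimit.ι N i := by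
  have h := congrArg (fun m : (coyoneda.obj (op M)).obj (N.obj i) ⟶ (coyoneda.obj (op M)).obj (colimit N) =>
    m φ) (colimit.ι_post N (coyoneda.obj (op M)) i)
  exact h

theorem injective_post [Module.Finite A M] :
    Function.Injective (colimit.post N (coyoneda.obj (op M))) := by
  intro a b hab
  obtain ⟨i, φ, rfl⟩ := Types.jointly_surjective' (F := N ⋙ coyoneda.obj (op M)) a
  obtain ⟨j, ψ, rfl⟩ := Types.jointly_surjective' (F := N ⋙ coyoneda.obj (op M)) b
  change M ⟶ N.obj i at φ
  change M ⟶ N.obj j at ψ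
  obtain ⟨k, hi, hj⟩ := exists_ge_ge i j
  obtain ⟨n, s, hs⟩ := Module.Finite.exists_fin (R := A) (M := M)
  rw [post_ι, post_ι] at hab
  have he : ∀ t : Fin n, colimit.ι N k (N.map (homOfLE hi) (φ (s t))) =
      colimit.ι N k (N.map (homOfLE hj) (ψ (s t))) := fun t => by
    rw [ι_map, ι_map]
    exact congr($hab (s t))
  choose l hl hle using fun t => exists_map_eq N _ _ (he t)
  obtain ⟨m, hm⟩ := Finite.exists_le (fun o : Option (Fin n) => o.elim k l)
  refine (Types.FilteredColimit.colimit_eq_iff _).2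
    ⟨m, homOfLE (hi.trans (hm none)), homOfLE (hj.trans (hm none)), ?_⟩
  show φ ≫ N.map _ = ψ ≫ N.map _
  apply ModuleCat.hom_ext
  refine LinearMap.ext_on_range hs fun t => ?_
  have e := congrArg (N.map (homOfLE (show l t ≤ m from hm (some t)))) (hle t)
  rw [map_map, map_map, map_map, map_map] at e
  exact e

theorem surjective_post [Module.FinitePresentation A M] :
    Function.Surjective (colimit.post N (coyoneda.obj (op M))) := by
  intro h
  change M ⟶ colimit N at h
  obtain ⟨n, K, e, hK⟩ := Module.FinitePresentation.exists_fin A M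
  let π : (Fin n → A) →ₗ[A] M := e.symm.toLinearMap ∘ₗ K.mkQ
  have hker : ∀ r ∈ K, π r = 0 := fun r hr => by
    simp [π, (Submodule.Quotient.mk_eq_zero K).2 hr]
  choose i x hx using fun t : Fin n => Concrete.colimit_exists_rep N (h (π (Pi.single t 1)))
  obtain ⟨k, hk⟩ := Finite.exists_le i
  let F : (Fin n → A) →ₗ[A] N.obj k :=
    (Pi.basisFun A (Fin n)).constr A fun t => N.map (homOfLE (hk t)) (x t)
  have hF : (colimit.ι N k).hom ∘ₗ F = h.hom ∘ₗ π := by
    refine (Pi.basisFun A (Fin n)).ext fun t => ?_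
    show colimit.ι N k (F (Pi.basisFun A (Fin n) t)) = h (π (Pi.basisFun A (Fin n) t))
    rw [Module.Basis.constr_basis, Pi.basisFun_apply, ι_map, hx]
  obtain ⟨G, hG⟩ := hK
  have hz : ∀ r : {r // r ∈ G}, ∃ (l : J) (hl : k ≤ l), N.map (homOfLE hl) (F r.1) = 0 := by
    intro r
    have h0 : colimit.ι N k (F r.1) = colimit.ι N k 0 := by
      rw [map_zero]
      show ((colimit.ι N k).hom ∘ₗ F) r.1 = 0
      rw [hF, LinearMap.comp_apply, hker r.1 (hG ▸ Submodule.subset_span r.2), map_zero]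
    obtain ⟨l, hl, e⟩ := exists_map_eq N _ _ h0
    exact ⟨l, hl, by rw [e, map_zero]⟩
  choose l hl hle using hz
  obtain ⟨m, hm⟩ := Finite.exists_le (fun o : Option {r // r ∈ G} => o.elim k l)
  let F' : (Fin n → A) →ₗ[A] N.obj m := (N.map (homOfLE (hm none : k ≤ m))).hom ∘ₗ F
  have hKF : K ≤ LinearMap.ker F' := by
    rw [← hG, Submodule.span_le]
    intro r hr
    show N.map (homOfLE (hm none : k ≤ m)) (F r) = 0
    have e1 := congrArg (N.map (homOfLE (show l ⟨r, hr⟩ ≤ m from hm (some ⟨r, hr⟩)))) (hle ⟨r, hr⟩)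
    rw [map_zero] at e1
    rw [map_map] at e1
    exact e1
  let ψ : M ⟶ N.obj m := ModuleCat.ofHom (K.liftQ F' hKF ∘ₗ e.toLinearMap)
  refine ⟨colimit.ι (N ⋙ coyoneda.obj (op M)) m ψ, ?_⟩
  rw [post_ι]
  apply ModuleCat.hom_ext
  ext y
  obtain ⟨r, rfl⟩ : ∃ r, π r = y := by
    obtain ⟨r, hr⟩ := K.mkQ_surjective (e y)
    exact ⟨r, by simp [π, LinearMap.comp_apply, hr]⟩
  show colimit.ι N m (K.liftQ F' hKF (e (π r))) = h (π r)
  have e2 : e (π r) = K.mkQ r := by simp [π]
  rw [e2]
  show colimit.ι N m (N.map (homOfLE (hm none : k ≤ m)) (F r)) = _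
  rw [ι_map]
  exact congr($hF r)

end GrothLib.LimDescend
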