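import Groth.Agent.Lib.LimDescend.Models
import Mathlib.AlgebraicGeometry.Limits

/-!
# Gluing two models along an open
-/

set_option autoImplicit false
set_option backward.isDefEq.respectTransparency false
set_option linter.style.haveILetI false
universe u

open CategoryTheory Limits AlgebraicGeometry TopologicalSpace

noncomputable section

namespace GrothLib.LimDescend

/-- Two schemes glue along an open immersion into each. -/
theorem exists_pushout {W Y₁ Y₂ : Scheme.{u}} (j₁ : W ⟶ Y₁) (j₂ : W ⟶ Y₂)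
    [IsOpenImmersion j₁] [IsOpenImmersion j₂] :
    IsOpenImmersion (pushout.inl j₁ j₂) ∧ IsOpenImmersion (pushout.inr j₁ j₂) ∧
      (∀ x : ↥(pushout j₁ j₂), (∃ y, pushout.inl j₁ j₂ y = x) ∨ ∃ y, pushout.inr j₁ j₂ y = x) ∧
      ∀ y₁ y₂, pushout.inl j₁ j₂ y₁ = pushout.inr j₁ j₂ y₂ → ∃ z, j₁ z = y₁ ∧ j₂ z = y₂ := by
  refine ⟨inferInstanceAs (IsOpenImmersion (colimit.ι (span j₁ j₂) WalkingSpan.left)),
    inferInstanceAs (IsOpenImmersion (colimit.ι (span j₁ j₂) WalkingSpan.right)), fun x => ?_,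
    fun y₁ y₂ h => ?_⟩
  · obtain ⟨i, xi, rfl⟩ := Scheme.IsLocallyDirected.ι_jointly_surjective (span j₁ j₂) x
    obtain (_ | (_ | _)) := i
    · refine Or.inl ⟨j₁ xi, ?_⟩
      show colimit.ι (span j₁ j₂) WalkingSpan.left ((span j₁ j₂).map WalkingSpan.Hom.fst xi) = _
      rw [← Scheme.Hom.comp_apply, colimit.w]
    · exact Or.inl ⟨xi, rfl⟩
    · exact Or.inr ⟨xi, rfl⟩
  · obtain ⟨k, fi, fj, x, hx₁, hx₂⟩ :=
      (Scheme.IsLocallyDirected.ι_eq_ι_iff (F := span j₁ j₂)).mp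
        (show colimit.ι (span j₁ j₂) WalkingSpan.left y₁ = colimit.ι (span j₁ j₂) WalkingSpan.right y₂ from h)
    obtain (_ | (_ | _)) := k
    · refine ⟨x, ?_, ?_⟩
      · rw [← hx₁, Subsingleton.elim fi WalkingSpan.Hom.fst]; rfl
      · rw [← hx₂, Subsingleton.elim fj WalkingSpan.Hom.snd]; rfl
    · exact nomatch fj
    · exact nomatch fi

/-- A cartesian square may be checked on two opens. -/
theorem isPullback_of_two {X G S T : Scheme.{u}} (g : X ⟶ G) (f : X ⟶ S) (q : G ⟶ T) (π : S ⟶ T)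
    {U V A B : Scheme.{u}} (ιU : U ⟶ X) (ιV : V ⟶ X) (oA : A ⟶ G) (oB : B ⟶ G)
    [IsOpenImmersion ιU] [IsOpenImmersion ιV] [IsOpenImmersion oA] [IsOpenImmersion oB]
    (gA : U ⟶ A) (gB : V ⟶ B) (hA : gA ≫ oA = ιU ≫ g) (hB : gB ≫ oB = ιV ≫ g)
    (sA : IsPullback gA (ιU ≫ f) (oA ≫ q) π) (sB : IsPullback gB (ιV ≫ f) (oB ≫ q) π)
    (rA : g ⁻¹ᵁ oA.opensRange = ιU.opensRange) (rB : g ⁻¹ᵁ oB.opensRange = ιV.opensRange)
    (hcov : ∀ y : G, y ∈ oA.opensRange ∨ y ∈ oB.opensRange) (w : g ≫ q = f ≫ π) :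
    IsPullback g f q π := by
  let m : X ⟶ pullback q π := pullback.lift g f w
  have key : ∀ {U A : Scheme.{u}} (ι : U ⟶ X) (o : A ⟶ G) [IsOpenImmersion ι] [IsOpenImmersion o]
      (γ : U ⟶ A), γ ≫ o = ι ≫ g → IsPullback γ (ι ≫ f) (o ≫ q) π → g ⁻¹ᵁ o.opensRange = ι.opensRange →
        IsIso (m ∣_ (pullback.fst q π ⁻¹ᵁ o.opensRange)) := by
    intro U A ι o _ _ γ h s r
    have e1 : IsPullback γ ((ι ≫ m) ≫ pullback.snd q π) (o ≫ q) π := by
      rw [Category.assoc, pullback.lift_snd]; exact s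
    have sq : IsPullback γ (ι ≫ m) o (pullback.fst q π) :=
      IsPullback.of_bot e1 (by rw [Category.assoc, pullback.lift_fst, h]) (IsPullback.of_hasPullback q π)
    haveI : IsOpenImmersion (ι ≫ m) := MorphismProperty.of_isPullback (P := @IsOpenImmersion) sq inferInstance
    have hr : (ι ≫ m).opensRange = pullback.fst q π ⁻¹ᵁ o.opensRange := by
      refine Opens.ext (Set.ext fun z => ⟨?_, fun hz => ?_⟩)
      · rintro ⟨u, rfl⟩
        exact ⟨γ u, by rw [← Scheme.Hom.comp_apply, sq.w]; rfl⟩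
      · obtain ⟨a, ha⟩ := hz
        obtain ⟨u, -, hu⟩ := Scheme.exists_preimage_of_isPullback sq a z ha
        exact ⟨u, hu⟩
    have hs : IsPullback (𝟙 U) ι (ι ≫ m) m := by
      refine IsOpenImmersion.isPullback _ _ _ _ (Category.id_comp _).symm ?_
      rw [hr, ← Scheme.Hom.comp_preimage, pullback.lift_fst]
      exact r
    rw [← hr]
    refine (MorphismProperty.isomorphisms Scheme.{u}).arrow_mk_iso_iff
      (morphismRestrictOpensRange m (ι ≫ m)) |>.mpr ?_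
    show IsIso (pullback.snd m (ι ≫ m))
    rw [← hs.flip.isoPullback_inv_snd]
    infer_instance
  have : IsIso m := by
    refine (IsZariskiLocalAtTarget.iff_of_iSup_eq_top (P := MorphismProperty.isomorphisms Scheme.{u})
      (fun b : Bool => if b then pullback.fst q π ⁻¹ᵁ oA.opensRange else pullback.fst q π ⁻¹ᵁ oB.opensRange)
      (top_unique fun z _ => ?_)).mpr fun b => ?_
    · rcases hcov (pullback.fst q π z) with h | h
      · exact Opens.mem_iSup.mpr ⟨true, h⟩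
      · exact Opens.mem_iSup.mpr ⟨false, h⟩
    · cases b
      · exact key ιV oB gB hB sB rB
      · exact key ιU oA gA hA sA rA
  exact IsPullback.of_iso_pullback ⟨w⟩ (asIso m) (pullback.lift_fst _ _ _) (pullback.lift_snd _ _ _)

/-- Two morphisms agreeing on the overlap glue. -/
theorem exists_glue_hom {X G : Scheme.{u}} (U V W : X.Opens) (hUV : U ⊔ V = ⊤) (hW : U ⊓ V ≤ W)
    (hWU : W ≤ U) (hWV : W ≤ V) (a : U.toScheme ⟶ G) (b : V.toScheme ⟶ G)
    (h : X.homOfLE hWU ≫ a = X.homOfLE hWV ≫ b) :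
    ∃ g : X ⟶ G, U.ι ≫ g = a ∧ V.ι ≫ g = b := by
  let op : ULift.{u} Bool → X.Opens := fun i => if i.down then U else V
  have hop : IsOpenCover op := by
    refine top_le_iff.mp (hUV.ge.trans (sup_le ?_ ?_))
    · exact le_iSup_of_le ⟨true⟩ le_rfl
    · exact le_iSup_of_le ⟨false⟩ le_rfl
  let 𝒰 := X.openCoverOfIsOpenCover op hop
  let φ : ∀ i, (op i).toScheme ⟶ G := fun i => match i with
    | ⟨true⟩ => a
    | ⟨false⟩ => b
  have hself : ∀ (O : X.Opens) (k : O.toScheme ⟶ G),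
      pullback.fst O.ι O.ι ≫ k = pullback.snd O.ι O.ι ≫ k := fun O k => by
    rw [show pullback.fst O.ι O.ι = pullback.snd O.ι O.ι from
      (cancel_mono O.ι).mp pullback.condition]
  have hUV' : pullback.fst U.ι V.ι ≫ a = pullback.snd U.ι V.ι ≫ b := by
    let r : pullback U.ι V.ι ⟶ W.toScheme := IsOpenImmersion.lift W.ι (pullback.fst _ _ ≫ U.ι) (by
      rw [Scheme.Opens.range_ι]
      rintro - ⟨z, rfl⟩
      refine hW ⟨(pullback.fst U.ι V.ι z).2, ?_⟩
      show (pullback.fst U.ι V.ι ≫ U.ι) z ∈ V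
      rw [pullback.condition]
      exact (pullback.snd U.ι V.ι z).2)
    have h₁ : r ≫ X.homOfLE hWU = pullback.fst _ _ := by
      rw [← cancel_mono U.ι, Category.assoc, Scheme.homOfLE_ι, IsOpenImmersion.lift_fac]
    have h₂ : r ≫ X.homOfLE hWV = pullback.snd _ _ := by
      rw [← cancel_mono V.ι, Category.assoc, Scheme.homOfLE_ι, IsOpenImmersion.lift_fac,
        pullback.condition]
    rw [← h₁, ← h₂, Category.assoc, Category.assoc, h]
  refine ⟨𝒰.glueMorphisms φ (fun i j => ?_), 𝒰.ι_glueMorphisms φ _ ⟨true⟩, 𝒰.ι_glueMorphisms φ _ ⟨false⟩⟩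
  obtain ⟨_ | _⟩ := i <;> obtain ⟨_ | _⟩ := j
  · exact hself V b
  · change pullback.fst V.ι U.ι ≫ b = pullback.snd V.ι U.ι ≫ a
    have h' := congr((pullbackSymmetry V.ι U.ι).hom ≫ $hUV')
    rw [pullbackSymmetry_hom_comp_fst_assoc, pullbackSymmetry_hom_comp_snd_assoc] at h'
    exact h'.symm
  · exact hUV'
  · exact hself U a

variable {I : Type u} [SmallCategory I] (D : I ⥤ Scheme.{u}) (c : Cone D)
  [∀ i, QuasiSeparatedSpace (D.obj i)]

/-- Models of two opens covering `X`, glued along models of the overlap. -/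
theorem exists_model_of_glue {X : Scheme.{u}} (f : X ⟶ c.pt) {i : I} (U V W : X.Opens)
    (hUV : U ⊔ V = ⊤) (hW : U ⊓ V = W) (MU : Model D c (U.ι ≫ f) i) (MV : Model D c (V.ι ≫ f) i)
    {Q : Scheme.{u}} [CompactSpace Q] [CompactSpace MU.obj] [CompactSpace MV.obj]
    [QuasiSeparatedSpace MU.obj] [QuasiSeparatedSpace MV.obj]
    (j₁ : Q ⟶ MU.obj) (j₂ : Q ⟶ MV.obj) [IsOpenImmersion j₁] [IsOpenImmersion j₂]
    (hj : j₁ ≫ MU.hom = j₂ ≫ MV.hom) (gW : W.toScheme ⟶ Q)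
    (h₁ : gW ≫ j₁ = X.homOfLE (hW.ge.trans inf_le_left) ≫ MU.proj)
    (h₂ : gW ≫ j₂ = X.homOfLE (hW.ge.trans inf_le_right) ≫ MV.proj)
    (r₁ : MU.proj ⁻¹ᵁ j₁.opensRange = (X.homOfLE (hW.ge.trans inf_le_left)).opensRange)
    (r₂ : MV.proj ⁻¹ᵁ j₂.opensRange = (X.homOfLE (hW.ge.trans inf_le_right)).opensRange) :
    Nonempty (Model D c f i) := by
  obtain ⟨io₁, io₂, hjoint, hint⟩ := exists_pushout j₁ j₂
  let o₁ := pushout.inl j₁ j₂
  let o₂ := pushout.inr j₁ j₂
  haveI : IsOpenImmersion o₁ := io₁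
  haveI : IsOpenImmersion o₂ := io₂
  let q : pushout j₁ j₂ ⟶ D.obj i := pushout.desc MU.hom MV.hom hj
  have hq₁ : o₁ ≫ q = MU.hom := pushout.inl_desc _ _ _
  have hq₂ : o₂ ≫ q = MV.hom := pushout.inr_desc _ _ _
  have hWU : W ≤ U := hW.ge.trans inf_le_left
  have hWV : W ≤ V := hW.ge.trans inf_le_right
  obtain ⟨g, hgU, hgV⟩ := exists_glue_hom U V W hUV hW.le hWU hWV (MU.proj ≫ o₁) (MV.proj ≫ o₂) (by
    rw [← reassoc_of% h₁, ← reassoc_of% h₂, pushout.condition])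
  have memU : ∀ x, x ∈ U ∨ x ∈ V := fun x =>
    (show x ∈ U ⊔ V by rw [hUV]; trivial)
  have rU : g ⁻¹ᵁ o₁.opensRange = U.ι.opensRange := by
    rw [Scheme.Opens.opensRange_ι]
    refine Opens.ext (Set.ext fun x => ⟨fun ⟨a, ha⟩ => ?_, fun hx => ?_⟩)
    · rcases memU x with hx | hx
      · exact hx
      · have hb : o₁ a = o₂ (MV.proj ⟨x, hx⟩) := ha.trans congr($hgV (⟨x, hx⟩ : V))
        obtain ⟨z, -, hz⟩ := hint _ _ hb
        obtain ⟨w, hw⟩ := r₂.le (show MV.proj ⟨x, hx⟩ ∈ j₂.opensRange from ⟨z, hz⟩)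
        have hwx : w.1 = x := congr($(X.homOfLE_ι hWV) w).symm.trans (congrArg V.ι hw)
        exact hWU (hwx ▸ w.2)
    · exact ⟨MU.proj ⟨x, hx⟩, congr($hgU (⟨x, hx⟩ : U)).symm⟩
  have rV : g ⁻¹ᵁ o₂.opensRange = V.ι.opensRange := by
    rw [Scheme.Opens.opensRange_ι]
    refine Opens.ext (Set.ext fun x => ⟨fun ⟨a, ha⟩ => ?_, fun hx => ?_⟩)
    · rcases memU x with hx | hx
      · have hb : o₁ (MU.proj ⟨x, hx⟩) = o₂ a := (congr($hgU (⟨x, hx⟩ : U))).symm.trans ha.symm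
        obtain ⟨z, hz, -⟩ := hint _ _ hb
        obtain ⟨w, hw⟩ := r₁.le (show MU.proj ⟨x, hx⟩ ∈ j₁.opensRange from ⟨z, hz⟩)
        have hwx : w.1 = x := congr($(X.homOfLE_ι hWU) w).symm.trans (congrArg U.ι hw)
        exact hWV (hwx ▸ w.2)
      · exact hx
    · exact ⟨MV.proj ⟨x, hx⟩, congr($hgV (⟨x, hx⟩ : V)).symm⟩
  have hcov : ∀ y, y ∈ o₁.opensRange ∨ y ∈ o₂.opensRange := fun y =>
    (hjoint y).imp (fun ⟨a, ha⟩ => ⟨a, ha⟩) (fun ⟨a, ha⟩ => ⟨a, ha⟩)
  have w : g ≫ q = f ≫ c.π.app i := by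
    obtain ⟨g', h'U, h'V⟩ := exists_glue_hom U V W hUV hW.le hWU hWV (U.ι ≫ f ≫ c.π.app i)
      (V.ι ≫ f ≫ c.π.app i) (by rw [Scheme.homOfLE_ι_assoc, Scheme.homOfLE_ι_assoc])
    have e : ∀ k : X ⟶ D.obj i, U.ι ≫ k = U.ι ≫ f ≫ c.π.app i → V.ι ≫ k = V.ι ≫ f ≫ c.π.app i →
        k = f ≫ c.π.app i := fun k hkU hkV => by
      refine Scheme.Cover.hom_ext (X.openCoverOfIsOpenCover
        (fun i : ULift.{u} Bool => if i.down then U else V) ?_) _ _ fun i => ?_
      · refine top_le_iff.mp (hUV.ge.trans (sup_le ?_ ?_))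
        · exact le_iSup_of_le ⟨true⟩ le_rfl
        · exact le_iSup_of_le ⟨false⟩ le_rfl
      · obtain ⟨_ | _⟩ := i
        · exact hkV
        · exact hkU
    refine e _ ?_ ?_
    · rw [reassoc_of% hgU, hq₁, MU.isPullback.w, Category.assoc]
    · rw [reassoc_of% hgV, hq₂, MV.isPullback.w, Category.assoc]
  have sq : IsPullback g f q (c.π.app i) :=
    isPullback_of_two g f q (c.π.app i) U.ι V.ι o₁ o₂ MU.proj MV.proj hgU.symm hgV.symm
      (by rw [hq₁]; exact MU.isPullback) (by rw [hq₂]; exact MV.isPullback) rU rV hcov w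
  let O : Bool → (pushout j₁ j₂).Opens := fun b => if b then o₁.opensRange else o₂.opensRange
  have hO : ⨆ b, O b = ⊤ := top_unique fun y _ =>
    (hcov y).elim (fun h => Opens.mem_iSup.mpr ⟨true, h⟩) (fun h => Opens.mem_iSup.mpr ⟨false, h⟩)
  have sq₁₂ : IsPullback j₁ j₂ o₁ o₂ := by
    refine IsOpenImmersion.isPullback _ _ _ _ pushout.condition.symm ?_
    refine Opens.ext (Set.ext fun y => ⟨fun ⟨a, ha⟩ => ?_, fun ⟨z, hz⟩ => ⟨j₁ z, ?_⟩⟩)
    · obtain ⟨z, -, hz⟩ := hint _ _ ha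
      exact ⟨z, hz⟩
    · rw [← hz, ← Scheme.Hom.comp_apply, pushout.condition]; rfl
  have qcj₁ : QuasiCompact j₁ := quasiCompact_of_compactSpace j₁
  have qcj₂ : QuasiCompact j₂ := quasiCompact_of_compactSpace j₂
  have qc₁ : QuasiCompact o₁ := by
    refine (IsZariskiLocalAtTarget.iff_of_iSup_eq_top (P := @QuasiCompact) O hO).mpr fun b => ?_
    cases b
    · refine (MorphismProperty.arrow_mk_iso_iff @QuasiCompact (morphismRestrictOpensRange o₁ o₂)).mpr ?_
      show QuasiCompact (pullback.snd o₁ o₂)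
      rw [← sq₁₂.isoPullback_inv_snd]
      infer_instance
    · refine (MorphismProperty.arrow_mk_iso_iff @QuasiCompact (morphismRestrictOpensRange o₁ o₁)).mpr ?_
      show QuasiCompact (pullback.snd o₁ o₁)
      rw [← (IsKernelPair.id_of_mono o₁).isoPullback_inv_snd]
      infer_instance
  have qc₂ : QuasiCompact o₂ := by
    refine (IsZariskiLocalAtTarget.iff_of_iSup_eq_top (P := @QuasiCompact) O hO).mpr fun b => ?_
    cases b
    · refine (MorphismProperty.arrow_mk_iso_iff @QuasiCompact (morphismRestrictOpensRange o₂ o₂)).mpr ?_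
      show QuasiCompact (pullback.snd o₂ o₂)
      rw [← (IsKernelPair.id_of_mono o₂).isoPullback_inv_snd]
      infer_instance
    · refine (MorphismProperty.arrow_mk_iso_iff @QuasiCompact (morphismRestrictOpensRange o₂ o₁)).mpr ?_
      show QuasiCompact (pullback.snd o₂ o₁)
      rw [← sq₁₂.flip.isoPullback_inv_snd]
      infer_instance
  have huniv : Set.range o₁ ∪ Set.range o₂ = Set.univ := Set.eq_univ_of_forall hjoint
  haveI : CompactSpace ↥(pushout j₁ j₂) :=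
    ⟨huniv ▸ (isCompact_range o₁.continuous).union (isCompact_range o₂.continuous)⟩
  haveI : QuasiSeparatedSpace ↥(pushout j₁ j₂) := ⟨fun S T hS hS' hT hT' => by
    have e : S ∩ T = o₁ '' (o₁ ⁻¹' S ∩ o₁ ⁻¹' T) ∪ o₂ '' (o₂ ⁻¹' S ∩ o₂ ⁻¹' T) := by
      rw [← Set.preimage_inter, ← Set.preimage_inter, Set.image_preimage_eq_inter_range,
        Set.image_preimage_eq_inter_range, ← Set.inter_union_distrib_left, huniv, Set.inter_univ]
    rw [e]
    refine ((QuasiSeparatedSpace.inter_isCompact _ _ (hS.preimage o₁.continuous) ?_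
      (hT.preimage o₁.continuous) ?_).image o₁.continuous).union
      ((QuasiSeparatedSpace.inter_isCompact _ _ (hS.preimage o₂.continuous) ?_
      (hT.preimage o₂.continuous) ?_).image o₂.continuous)
    · exact qc₁.isCompact_preimage S hS hS'
    · exact qc₁.isCompact_preimage T hT hT'
    · exact qc₂.isCompact_preimage S hS hS'
    · exact qc₂.isCompact_preimage T hT hT'⟩
  refine ⟨⟨_, q, g, ?_, quasiCompact_of_compactSpace q, inferInstance, sq⟩⟩
  refine (IsZariskiLocalAtSource.iff_of_iSup_eq_top (P := @LocallyOfFinitePresentation) O hO).mpr fun b => ?_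
  cases b
  · show LocallyOfFinitePresentation (o₂.opensRange.ι ≫ q)
    rw [← Scheme.Hom.isoOpensRange_inv_comp, Category.assoc, hq₂]
    infer_instance
  · show LocallyOfFinitePresentation (o₁.opensRange.ι ≫ q)
    rw [← Scheme.Hom.isoOpensRange_inv_comp, Category.assoc, hq₁]
    infer_instance

end GrothLib.LimDescend
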