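import Groth.Agent.Lib.LimDescend.Hom
import Groth.Agent.Lib.FlatLimit.Stage
import Mathlib.AlgebraicGeometry.Morphisms.RingHomProperties
import Mathlib.RingTheory.Extension.Presentation.Core
import Mathlib.Algebra.Category.Ring.Constructions

/-!
# Models of open subschemes at a stage of a limit
-/

set_option autoImplicit false
set_option backward.isDefEq.respectTransparency false
set_option linter.style.haveILetI false
universe u

open CategoryTheory Limits AlgebraicGeometry TensorProduct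

noncomputable section

namespace GrothLib.LimDescend

open GrothLib.LimDesc

variable {I : Type u} [SmallCategory I] (D : I ⥤ Scheme.{u}) (c : Cone D)

/-- A finitely presented model at stage `i` of a scheme over the limit. -/
structure Model {X : Scheme.{u}} (f : X ⟶ c.pt) (i : I) where
  /-- The model. -/
  obj : Scheme.{u}
  /-- Its structure map. -/
  hom : obj ⟶ D.obj i
  /-- The projection. -/
  proj : X ⟶ obj
  lfp : LocallyOfFinitePresentation hom
  qc : QuasiCompact hom
  qs : QuasiSeparated hom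
  isPullback : IsPullback proj f hom (c.π.app i)

attribute [instance] Model.lfp Model.qc Model.qs

/-- A model at a stage gives one at every later stage. -/
def Model.map {X : Scheme.{u}} {f : X ⟶ c.pt} {i : I} (M : Model D c f i) {j : I} (φ : j ⟶ i) :
    Model D c f j where
  obj := pullback M.hom (D.map φ)
  hom := pullback.snd _ _
  proj := pullback.lift M.proj (f ≫ c.π.app j) (by rw [Category.assoc, c.w, M.isPullback.w])
  lfp := MorphismProperty.pullback_snd (P := @LocallyOfFinitePresentation) _ _ M.lfp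
  qc := MorphismProperty.pullback_snd (P := @QuasiCompact) _ _ M.qc
  qs := MorphismProperty.pullback_snd (P := @QuasiSeparated) _ _ M.qs
  isPullback := by
    refine IsPullback.of_right ?_ (pullback.lift_snd _ _ _) (IsPullback.of_hasPullback M.hom (D.map φ))
    rw [pullback.lift_fst, c.w]
    exact M.isPullback

/-- An open of the model cuts out a pullback square. -/
theorem isPullback_restrict {X W : Scheme.{u}} {f : X ⟶ c.pt} {i : I} (M : Model D c f i)
    (j : W ⟶ X) [IsOpenImmersion j] (A : M.obj.Opens) (h : M.proj ⁻¹ᵁ A = j.opensRange) :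
    ∃ gW : W ⟶ A.toScheme, gW ≫ A.ι = j ≫ M.proj ∧ IsPullback gW (j ≫ f) (A.ι ≫ M.hom) (c.π.app i) := by
  have hr : Set.range (j ≫ M.proj) ⊆ Set.range A.ι := by
    rw [Scheme.Opens.range_ι]
    rintro - ⟨w, rfl⟩
    exact h.ge ⟨w, rfl⟩
  refine ⟨IsOpenImmersion.lift A.ι (j ≫ M.proj) hr, IsOpenImmersion.lift_fac _ _ _, ?_⟩
  refine (IsOpenImmersion.isPullback _ j A.ι M.proj ?_ ?_).paste_vert M.isPullback
  · rw [IsOpenImmersion.lift_fac]
  · rw [Scheme.Opens.opensRange_ι]; exact h

variable (hc : IsLimit c) [IsCofiltered I] [∀ (i j : I) (f : i ⟶ j), IsAffineHom (D.map f)]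
  [∀ i, CompactSpace (D.obj i)] [∀ i, QuasiSeparatedSpace (D.obj i)]

include hc in
/-- Finitely many elements of the ring of an affine open of the limit come from a common stage. -/
theorem exists_stage_range {i : I} {V : (D.obj i).Opens} (hV : IsAffineOpen V)
    (T : Finset Γ(c.pt, c.π.app i ⁻¹ᵁ V)) :
    ∃ (k : Over i) (e : c.π.app i ⁻¹ᵁ V ≤ c.π.app k.left ⁻¹ᵁ (D.map k.hom ⁻¹ᵁ V)),
      (T : Set Γ(c.pt, c.π.app i ⁻¹ᵁ V)) ⊆
        Set.range ((c.π.app k.left).appLE (D.map k.hom ⁻¹ᵁ V) (c.π.app i ⁻¹ᵁ V) e) := by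
  classical
  have eπ : ∀ k : Over i, c.π.app i ⁻¹ᵁ V ≤ c.π.app k.left ⁻¹ᵁ (D.map k.hom ⁻¹ᵁ V) := fun k => by
    rw [← Scheme.Hom.comp_preimage, c.w]
  induction T using Finset.induction_on with
  | empty => exact ⟨Over.mk (𝟙 i), eπ _, by simp⟩
  | insert b T _ ih =>
    obtain ⟨j, _, hj⟩ := ih
    obtain ⟨l, φ, e, t, ht⟩ := GrothLib.FlatLimit.exists_appLE_π_eq D c hc hV b
    let l' : Over i := Over.mk φ
    let k := IsCofiltered.min j l'
    have tr : ∀ {l : Over i} (ψ : k ⟶ l), D.map k.hom ⁻¹ᵁ V ≤ D.map ψ.left ⁻¹ᵁ (D.map l.hom ⁻¹ᵁ V) := by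
      intro l ψ
      rw [← Scheme.Hom.comp_preimage, ← D.map_comp, Over.w ψ]
    have key : ∀ {l : Over i} (ψ : k ⟶ l) (x : Γ(D.obj l.left, D.map l.hom ⁻¹ᵁ V)),
        (c.π.app k.left).appLE _ _ (eπ k) ((D.map ψ.left).appLE _ _ (tr ψ) x) =
          (c.π.app l.left).appLE _ _ (eπ l) x := by
      intro l ψ x
      rw [← ConcreteCategory.comp_apply, Scheme.Hom.appLE_comp_appLE]
      simp only [c.w ψ.left]
      rfl
    refine ⟨k, eπ k, fun x hx => ?_⟩
    rcases Finset.mem_insert.1 (Finset.mem_coe.1 hx) with rfl | hx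
    · exact ⟨_, (key (IsCofiltered.minToRight j l') t).trans ht⟩
    · obtain ⟨y, hy⟩ := hj (Finset.mem_coe.2 hx)
      exact ⟨_, (key (IsCofiltered.minToLeft j l') y).trans hy⟩

omit [IsCofiltered I] [∀ (i j : I) (f : i ⟶ j), IsAffineHom (D.map f)] [∀ i, CompactSpace (D.obj i)]
  [∀ i, QuasiSeparatedSpace (D.obj i)] in
/-- A finitely presented ring map has models over all rings hitting finitely many given elements. -/
theorem exists_model_ring {A B : CommRingCat.{u}} (r : A ⟶ B) (hr : r.hom.FinitePresentation) :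
    ∃ T : Finset A, ∀ (R : CommRingCat.{u}) (ι₀ : R ⟶ A), (T : Set A) ⊆ Set.range ι₀ →
      ∃ (B₀ : CommRingCat.{u}) (q : R ⟶ B₀) (s : B₀ ⟶ B),
        q.hom.FinitePresentation ∧ IsPushout ι₀ q r s := by
  classical
  letI := r.hom.toAlgebra
  haveI : Algebra.FinitePresentation A B := hr
  let P := Algebra.Presentation.ofFinitePresentation A B
  refine ⟨Finset.univ.biUnion fun t => (P.relation t).coeffs, fun R ι₀ hι => ?_⟩
  letI : Algebra R A := ι₀.hom.toAlgebra
  letI : Algebra R B := (r.hom.comp ι₀.hom).toAlgebra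
  haveI : IsScalarTower R A B := IsScalarTower.of_algebraMap_eq' rfl
  haveI : P.HasCoeffs R := ⟨fun x hx => hι (by
    simp only [Algebra.Presentation.coeffs, Set.mem_iUnion] at hx
    simpa using hx)⟩
  let M := P.ModelOfHasCoeffs R
  let e := P.tensorModelOfHasCoeffsEquiv R
  refine ⟨CommRingCat.of M, CommRingCat.ofHom (algebraMap R M),
    CommRingCat.ofHom (e.toAlgHom.toRingHom.comp
      (Algebra.TensorProduct.includeRight : M →ₐ[R] A ⊗[R] M).toRingHom),
    RingHom.finitePresentation_algebraMap.mpr inferInstance, ?_⟩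
  refine (CommRingCat.isPushout_tensorProduct R A M).of_iso (Iso.refl _) (Iso.refl _) (Iso.refl _)
    e.toRingEquiv.toCommRingCatIso ?_ ?_ ?_ ?_
  · exact rfl
  · exact rfl
  · ext x
    exact e.commutes x
  · exact rfl

include hc in
/-- An affine open which is finitely presented over the preimage of an affine open of a stage has a
model at a stage. -/
theorem exists_model_affine {X : Scheme.{u}} (f : X ⟶ c.pt) [LocallyOfFinitePresentation f] {i : I}
    {V : (D.obj i).Opens} (hV : IsAffineOpen V) {U : X.Opens} (hU : IsAffineOpen U)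
    (eU : U ≤ f ⁻¹ᵁ (c.π.app i ⁻¹ᵁ V)) :
    ∃ (j : I), Nonempty (Model D c (U.ι ≫ f) j) := by
  haveI := isAffineHom_π_app D c hc i
  have hW : IsAffineOpen (c.π.app i ⁻¹ᵁ V) := hV.preimage _
  have hfp : (f.appLE _ U eU).hom.FinitePresentation :=
    LocallyOfFinitePresentation.finitePresentation_appLE f hW hU eU
  obtain ⟨T, hT⟩ := exists_model_ring (f.appLE _ U eU) hfp
  obtain ⟨k, e, hk⟩ := exists_stage_range D c hc hV T
  obtain ⟨B₀, q, s, hq, hpo⟩ :=
    hT _ ((c.π.app k.left).appLE (D.map k.hom ⁻¹ᵁ V) (c.π.app i ⁻¹ᵁ V) e) hk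
  have hV' : IsAffineOpen (D.map k.hom ⁻¹ᵁ V) := hV.preimage _
  have h1 : IsPullback (Spec.map ((c.π.app k.left).appLE (D.map k.hom ⁻¹ᵁ V) (c.π.app i ⁻¹ᵁ V) e)) hW.fromSpec hV'.fromSpec (c.π.app k.left) := by
    refine IsOpenImmersion.isPullback _ _ _ _ (hV'.SpecMap_appLE_fromSpec _ hW e).symm ?_
    rw [hV'.opensRange_fromSpec, hW.opensRange_fromSpec, ← Scheme.Hom.comp_preimage, c.w]
  have h2 : IsPullback (Spec.map s) (Spec.map (f.appLE _ U eU))
      (Spec.map q) (Spec.map ((c.π.app k.left).appLE (D.map k.hom ⁻¹ᵁ V) (c.π.app i ⁻¹ᵁ V) e)) :=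
    (isPullback_SpecMap_of_isPushout _ _ _ _ hpo).flip
  haveI : LocallyOfFinitePresentation (Spec.map q) :=
    (HasRingHomProperty.Spec_iff (P := @LocallyOfFinitePresentation)).mpr hq
  haveI : LocallyOfFinitePresentation hV'.fromSpec := inferInstance
  refine ⟨k.left, ⟨⟨_, Spec.map q ≫ hV'.fromSpec,
    hU.isoSpec.hom ≫ Spec.map s, inferInstance,
    inferInstance, inferInstance, ?_⟩⟩⟩
  refine (h2.paste_vert h1).of_iso hU.isoSpec.symm (Iso.refl _) (Iso.refl _) (Iso.refl _) ?_ ?_ ?_ ?_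
  · simp
  · simp only [Iso.symm_hom, Iso.refl_hom, Category.comp_id]
    rw [hW.SpecMap_appLE_fromSpec f hU eU, ← hU.isoSpec_inv_ι_assoc]
  · simp
  · simp

end GrothLib.LimDescend
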